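import Groth.Agent.HensPar.Main
import Groth.Agent.Chev.CentBC
import Groth.Agent.Chev.CentralMT
import Groth.Agent.MTImage.ToriConj

/-!
# Maximal split tori over henselian local rings
-/

set_option autoImplicit false
set_option linter.style.haveILetI false
set_option linter.unusedSectionVars false
set_option backward.isDefEq.respectTransparency false
set_option backward.isDefEq.respectTransparency.types false
set_option maxHeartbeats 1000000
set_option synthInstance.maxHeartbeats 400000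

universe u

open CategoryTheory Limits MonoidalCategory CartesianMonoidalCategory MonObj AlgebraicGeometry
open scoped CategoryTheory.Obj

noncomputable section

namespace Groth.Agent.HensPar

open Groth.Agent.DynPar Groth.Agent.MTBridge

variable {O : Type u} [CommRing O] [HenselianLocalRing O] {G : Over (Spec (CommRingCat.of O))} [GrpObj G]

/-- A homomorphism of tori which is an isomorphism on the closed fibre is one. -/
theorem isIso_tori {T T' : Over (Spec (CommRingCat.of O))} [GrpObj T] [GrpObj T'] (hT : Red.IsTorus T)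
    (hT' : Red.IsTorus T') (f : T ⟶ T') [IsMonHom f] (h : IsIso ((Over.pullback (cl O)).map f)) : IsIso f := by
  let F := Over.pullback (cl O)
  have hm := isMultTypeFT_of_isTorus T hT
  have hm' := isMultTypeFT_of_isTorus T' hT'
  haveI := MTBridge.isAffineHom T hm
  haveI := MTBridge.isAffineHom T' hm'
  haveI := MTImage.smooth_torus hT
  haveI := MTImage.smooth_torus hT'
  haveI : IsMonHom (F.map f) := DynPar.isMonHom_map' _ f
  haveI : IsMonHom (asIso (F.map f)).hom := ‹IsMonHom (F.map f)›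
  haveI : IsMonHom (inv (F.map f)) := inferInstanceAs (IsMonHom (asIso (F.map f)).inv)
  obtain ⟨g, hg, hge⟩ := exists_hom_lift hm' ‹Smooth T.hom› inferInstance (inv (F.map f))
  haveI := hg
  haveI : IsMonHom (f ≫ g) := DynPar.isMonHom_comp' f g
  haveI : IsMonHom (g ≫ f) := DynPar.isMonHom_comp' g f
  refine ⟨g, ?_, ?_⟩
  · exact eq_of_closed hm (f ≫ g) (𝟙 T) (fun X x y => GrMax.comm_points_torus T hT _ _)
      (by rw [Functor.map_comp, hge, IsIso.hom_inv_id, CategoryTheory.Functor.map_id])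
  · exact eq_of_closed hm' (g ≫ f) (𝟙 T') (fun X x y => GrMax.comm_points_torus T' hT' _ _)
      (by rw [Functor.map_comp, hge, IsIso.inv_hom_id, CategoryTheory.Functor.map_id])

/-- Closed fibres of split tori are split. -/
theorem isSplit_closed {T : Over (Spec (CommRingCat.of O))} [GrpObj T] {r : ℕ}
    (hT : Red.IsSplitTorusWith (Fin r → ℤ) T) : Red.IsSplitTorusWith (Fin r → ℤ) (Red.bc (cl O) T) := by
  obtain ⟨e⟩ := hT
  exact ⟨MTBridge.bcMapIso (cl O) e ≪≫ MTBridge.bcDS (cl O) (Fin r → ℤ)⟩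

/-- An isomorphism of groups with a closed fibre as an isomorphism. -/
theorem exists_model_of_iso {r : ℕ} {D : Over (Spec (CommRingCat.of O))} [GrpObj D] (hD : Red.IsTorus D)
    (hDs : Red.IsSplitTorusWith (Fin r → ℤ) D)
    {T₀ : Over (Spec (CommRingCat.of (IsLocalRing.ResidueField O)))} [GrpObj T₀]
    (E : Grp.mk (Red.bc (cl O) D) ≅ Grp.mk T₀) :
    ∃ (D : Over (Spec (CommRingCat.of O))) (_ : GrpObj D), Red.IsTorus D ∧ Red.IsSplitTorusWith (Fin r → ℤ) D ∧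
      ∃ ee : Red.bc (cl O) D ≅ T₀, IsMonHom ee.hom :=
  ⟨D, inferInstance, hD, hDs,
    ⟨E.hom.hom.hom, E.inv.hom.hom, congrArg (fun z => z.hom.hom) E.hom_inv_id,
      congrArg (fun z => z.hom.hom) E.inv_hom_id⟩, E.hom.hom.isMonHom_hom⟩

theorem exists_splitTorus (S : Scheme.{u}) (r : ℕ) :
    ∃ (D : Over S) (_ : GrpObj D), Red.IsTorus D ∧ Red.IsSplitTorusWith (Fin r → ℤ) D :=
  ⟨Red.DS S (Fin r → ℤ), inferInstance, MTCentre.isTorus_DS_scheme S r, ⟨Iso.refl _⟩⟩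

/-- A split torus over the residue field is the closed fibre of a split torus. -/
theorem exists_torus_model {T₀ : Over (Spec (CommRingCat.of (IsLocalRing.ResidueField O)))} [GrpObj T₀] {r : ℕ}
    (h : Red.IsSplitTorusWith (Fin r → ℤ) T₀) :
    ∃ (D : Over (Spec (CommRingCat.of O))) (_ : GrpObj D), Red.IsTorus D ∧ Red.IsSplitTorusWith (Fin r → ℤ) D ∧
      ∃ ee : Red.bc (cl O) D ≅ T₀, IsMonHom ee.hom := by
  obtain ⟨D, _, hD, hDs⟩ := exists_splitTorus (Spec (CommRingCat.of O)) r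
  obtain ⟨e⟩ := h
  obtain ⟨e'⟩ := isSplit_closed hDs
  exact exists_model_of_iso hD hDs (e' ≪≫ e.symm)

/-- **Maximal split tori lift from the closed fibre.** -/
theorem exists_maxSplit_lift (hG : Red.IsReductive G)
    {T₀ : Over (Spec (CommRingCat.of (IsLocalRing.ResidueField O)))} [GrpObj T₀] (σ₀ : T₀ ⟶ Red.bc (cl O) G)
    [IsMonHom σ₀] [Mono σ₀] (hσ₀ : IsMaxSplit σ₀) :
    ∃ (T : Over (Spec (CommRingCat.of O))) (_ : GrpObj T) (σ : T ⟶ G) (_ : IsMonHom σ) (_ : Mono σ),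
      IsMaxSplit σ ∧ ∃ e : Red.bc (cl O) T ≅ T₀, e.hom ≫ σ₀ = (Over.pullback (cl O)).map σ := by
  obtain ⟨hT₀, ⟨r, hr⟩, hmax⟩ := hσ₀
  haveI := hG.1
  obtain ⟨T, _, hT, hTs, e, hem⟩ := exists_torus_model hr
  haveI := hem
  let F := Over.pullback (cl O)
  haveI : IsMonHom (e.hom ≫ σ₀) := DynPar.isMonHom_comp' e.hom σ₀
  obtain ⟨σ, hσ, hee⟩ := exists_hom_lift (isMultTypeFT_of_isTorus T hT) hG.2.1 hG.1 (e.hom ≫ σ₀)
  haveI := hσ
  haveI : Mono σ := mono_of_closed (isMultTypeFT_of_isTorus T hT) σ (by rw [hee]; infer_instance)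
  refine ⟨T, inferInstance, σ, hσ, inferInstance, ⟨hT, ⟨r, hTs⟩, fun T' _ σ' _ _ f hT' hs' hf => ?_⟩, e, hee.symm⟩
  haveI : IsMonHom f := MTSplit.isMonHom_of_comp_mono f σ' σ hf
  haveI : PreservesLimitsOfShape WalkingCospan F :=
    (Over.mapPullbackAdj (cl O)).rightAdjoint_preservesLimits.preservesLimitsOfShape
  haveI : IsMonHom (F.map σ') := DynPar.isMonHom_map' _ σ'
  obtain ⟨r', hr'⟩ := hs'
  have h1 : (e.inv ≫ F.map f) ≫ F.map σ' = σ₀ := by
    rw [Category.assoc, ← F.map_comp, hf, hee, Iso.inv_hom_id_assoc]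
  haveI : IsIso e.inv := ⟨e.hom, e.inv_hom_id, e.hom_inv_id⟩
  haveI := hmax (Red.bc (cl O) T') (F.map σ') (e.inv ≫ F.map f) (Chev.Borel.isTorus_bc_scheme T' (cl O) hT')
    ⟨r', isSplit_closed hr'⟩ h1
  exact isIso_tori hT hT' f (IsIso.of_isIso_comp_left e.inv (F.map f))

/-- **The closed fibre of a maximal split torus is a maximal split torus.** -/
theorem closed_maxSplit (hG : Red.IsReductive G) {T : Over (Spec (CommRingCat.of O))} [GrpObj T] (σ : T ⟶ G)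
    [IsMonHom σ] [Mono σ] (hσ : IsMaxSplit σ) :
    IsMonHom ((Over.pullback (cl O)).map σ) ∧ Mono ((Over.pullback (cl O)).map σ) ∧
      IsMaxSplit ((Over.pullback (cl O)).map σ) := by
  let F := Over.pullback (cl O)
  haveI : PreservesLimitsOfShape WalkingCospan F :=
    (Over.mapPullbackAdj (cl O)).rightAdjoint_preservesLimits.preservesLimitsOfShape
  haveI : IsMonHom (F.map σ) := DynPar.isMonHom_map' _ σ
  obtain ⟨hT, ⟨r, hr⟩, hmax⟩ := hσ
  refine ⟨inferInstance, inferInstance, Chev.Borel.isTorus_bc_scheme T (cl O) hT, ⟨r, isSplit_closed hr⟩,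
    fun T₁ _ σ₁ _ _ f₁ hT₁ hs₁ hf₁ => ?_⟩
  haveI := hG.1; haveI := hG.2.1
  obtain ⟨r₁, hr₁⟩ := hs₁
  obtain ⟨D, _, hD, hDs, ee, hee⟩ := exists_torus_model hr₁
  haveI := hee
  have hm := isMultTypeFT_of_isTorus T hT
  obtain ⟨Z, _, z, hz, hzc, hZs⟩ := Groth.Agent.S5247.result T G hm hG.2.1 hG.1 σ
  haveI := hz.1; haveI := hz.2.1; haveI := hzc; haveI := hZs
  haveI : IsAffineHom Z.hom := by rw [← Over.w z]; infer_instance
  have hzk := Chev.CentBC.isCentralizerOf_bc (cl O) σ z hz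
  haveI := hzk.1; haveI := hzk.2.1
  obtain ⟨s₁, hs₁⟩ := (hzk.2.2 T₁ σ₁).2 fun X' x h => by
    rw [← hf₁, ← Category.assoc h, ← MonObj.mul_comp, ← MonObj.mul_comp, GrMax.comm_points_torus T₁ hT₁]
  haveI : IsMonHom s₁ := MTSplit.isMonHom_of_comp_mono s₁ (F.map z) σ₁ hs₁
  have hDm := isMultTypeFT_of_isTorus D hD
  haveI := MTBridge.isAffineHom D hDm
  haveI := MTImage.smooth_torus hD
  haveI : IsMonHom (ee.hom ≫ s₁) := DynPar.isMonHom_comp' ee.hom s₁
  obtain ⟨s, hsm, hse⟩ := exists_hom_lift hDm hZs inferInstance (ee.hom ≫ s₁)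
  haveI := hsm
  haveI : IsMonHom (s ≫ z) := DynPar.isMonHom_comp' s z
  have hsz : F.map (s ≫ z) = ee.hom ≫ σ₁ := by rw [F.map_comp, hse, Category.assoc, hs₁]
  haveI : Mono (s ≫ z) := mono_of_closed hDm (s ≫ z) (by rw [hsz]; infer_instance)
  haveI : IsMonHom f₁ := MTSplit.isMonHom_of_comp_mono f₁ σ₁ (F.map σ) hf₁
  haveI : IsMonHom (f₁ ≫ ee.inv) := DynPar.isMonHom_comp' f₁ ee.inv
  obtain ⟨g, hg, hge⟩ := exists_hom_lift hm ‹Smooth D.hom› inferInstance (f₁ ≫ ee.inv)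
  haveI := hg
  haveI : IsMonHom (g ≫ s ≫ z) := DynPar.isMonHom_comp' g (s ≫ z)
  have hgσ : g ≫ s ≫ z = σ := eq_of_closed hm (g ≫ s ≫ z) σ
    (fun X x y => by
      have h := (hz.2.2 X (x ≫ g ≫ s ≫ z)).1 ⟨x ≫ g ≫ s, by simp only [Category.assoc]⟩ X (𝟙 X) y
      rwa [Category.id_comp] at h)
    (by rw [F.map_comp, hge, hsz, Category.assoc, Iso.inv_hom_id_assoc, hf₁])
  haveI := hmax D (s ≫ z) g hD ⟨r₁, hDs⟩ hgσ
  haveI : IsIso (f₁ ≫ ee.inv) := by rw [← hge]; infer_instance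
  exact IsIso.of_isIso_comp_right f₁ ee.inv

/-- **Parabolic subgroups containing the centralizer of a maximal split torus lift with the torus.** -/
theorem exists_pair_lift (hG : Red.IsReductive G) {T : Over (Spec (CommRingCat.of O))} [GrpObj T] (σ : T ⟶ G)
    [IsMonHom σ] (hT : Red.IsTorus T)
    {T₀ : Over (Spec (CommRingCat.of (IsLocalRing.ResidueField O)))} [GrpObj T₀] (σ₀ : T₀ ⟶ Red.bc (cl O) G)
    [IsMonHom σ₀] [Mono σ₀] (hσ₀ : IsMaxSplit σ₀) (e : Red.bc (cl O) T ≅ T₀)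
    (he : e.hom ≫ σ₀ = (Over.pullback (cl O)).map σ)
    {P₀ : Over (Spec (CommRingCat.of (IsLocalRing.ResidueField O)))} [GrpObj P₀] (p₀ : P₀ ⟶ Red.bc (cl O) G)
    (hP₀ : Red.IsParabolic p₀)
    (hZ₀ : ∀ (Z₀ : Over (Spec (CommRingCat.of (IsLocalRing.ResidueField O)))) [GrpObj Z₀]
      (z₀ : Z₀ ⟶ Red.bc (cl O) G), Red.IsCentralizerOf σ₀ z₀ → ∃ zP₀ : Z₀ ⟶ P₀, zP₀ ≫ p₀ = z₀) :
    ∃ (a : Red.DS (Spec (CommRingCat.of O)) ℤ ⟶ T) (P : Over (Spec (CommRingCat.of O))) (_ : GrpObj P) (p : P ⟶ G),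
      IsMonHom a ∧ IsP (a ≫ σ) p ∧ Red.IsParabolic p ∧
      (∀ (Z : Over (Spec (CommRingCat.of O))) [GrpObj Z] (z : Z ⟶ G),
        Red.IsCentralizerOf σ z → ∃ zP : Z ⟶ P, zP ≫ p = z) ∧
      ∃ e' : Red.bc (cl O) P ≅ P₀, e'.hom ≫ p₀ = (Over.pullback (cl O)).map p := by
  let F := Over.pullback (cl O)
  haveI := hG.1
  have hm := isMultTypeFT_of_isTorus T hT
  haveI := MTBridge.isAffineHom T hm
  haveI := MTImage.smooth_torus hT
  obtain ⟨a₀, ha₀, hc₀⟩ := exists_cochar_split (DynPar.isReductive_bc (cl O) hG) σ₀ hσ₀ p₀ hP₀ hZ₀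
  haveI := ha₀
  haveI : IsMonHom (F.map σ) := DynPar.isMonHom_map' _ σ
  haveI : IsMonHom e.hom := MTSplit.isMonHom_of_comp_mono e.hom σ₀ (F.map σ) he
  haveI : IsMonHom (a₀ ≫ e.inv) := DynPar.isMonHom_comp' a₀ e.inv
  obtain ⟨a, ha, hae⟩ := exists_ds_lift (MTTorus.isMultTypeFT_DS _ ℤ) ‹Smooth T.hom› inferInstance (a₀ ≫ e.inv)
  haveI := ha
  haveI : IsMonHom (a ≫ σ) := DynPar.isMonHom_comp' a σ
  obtain ⟨P, hPg, p, hP, hpar⟩ := exists_parabolic_of_cochar hG (a ≫ σ)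
  have he' : bcHom' (cl O) (a ≫ σ) = a₀ ≫ σ₀ := by
    show ej (cl O) ℤ ≫ F.map (a ≫ σ) = _
    rw [F.map_comp, ← Category.assoc]
    show bcHom' (cl O) a ≫ F.map σ = _
    rw [hae, Category.assoc, ← he, Iso.inv_hom_id_assoc]
  exact ⟨a, P, hPg, p, ha, hP, hpar, fun Z _ z hz => exists_centralizer_le σ a hP hz, exists_iso_closed hP hc₀ he'⟩

end Groth.Agent.HensPar
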