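import Groth.Agent.HensPar.Main
import Groth.Agent.HensPar.Tori
import Groth.Agent.MultT.HenselSplit
import Groth.Agent.RootBase.ParBorelLocus
import Groth.Agent.ParStd.GenPosNbhd
import Groth.Agent.MTBridge.OfHopf
import Groth.Agent.DynPar.SplitTorus
import Groth.Agent.TorScheme.Reductive
import Groth.Agent.SmallPicks.SmoothSection
import Groth.Agent.Chev.MaxTorusBC
import Groth.Agent.Chev.TorusExt
import Groth.Agent.S4132
import Groth.Agent.S4121

/-!
# Borel subgroups and maximal tori over henselian local rings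
-/

set_option autoImplicit false
set_option linter.style.haveILetI false
set_option linter.unusedSectionVars false
set_option backward.isDefEq.respectTransparency false
set_option backward.isDefEq.respectTransparency.types false
set_option maxHeartbeats 2000000
set_option synthInstance.maxHeartbeats 400000

universe u

open CategoryTheory Limits MonoidalCategory CartesianMonoidalCategory MonObj AlgebraicGeometry TensorProduct
open scoped CategoryTheory.Obj

noncomputable section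

namespace Groth.Agent.HensPar

open Groth.Agent.DynPar Groth.Agent.MTBridge

variable {O : Type u} [CommRing O] [HenselianLocalRing O] {G : Over (Spec (CommRingCat.of O))} [GrpObj G]

/-- Over a henselian local ring, Borel subgroups lift from the closed fibre. -/
theorem exists_borel_lift (hG : Red.IsReductive G)
    (B₀ : Over (Spec (CommRingCat.of (IsLocalRing.ResidueField O)))) [GrpObj B₀] (b₀ : B₀ ⟶ Red.bc (cl O) G)
    (hb₀ : Red.IsBorel b₀) :
    ∃ (B : Over (Spec (CommRingCat.of O))) (_ : GrpObj B) (b : B ⟶ G), Red.IsBorel b := by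
  haveI := hG.1; haveI := hG.2.1
  obtain ⟨hb1, hb2, hb3, hb4⟩ := id hb₀
  have hp₀ : Red.IsParabolic b₀ := ⟨hb1, hb2, hb3, fun s =>
    ⟨(hb4 s).1, (hb4 s).2.1, (hb4 s).2.2.1, _, inferInstance, 𝟙 _, by rw [Category.id_comp]; exact hb4 s⟩⟩
  obtain ⟨P, _, p, hP, e, he⟩ := exists_parabolic_lift hG B₀ b₀ hp₀
  haveI := hP.1
  haveI := hb2
  haveI : Mono b₀ := Over.mono_of_mono_left b₀
  haveI := hb1
  haveI : IsMonHom ((Over.pullback (cl O)).map p) := DynPar.isMonHom_map' _ p
  haveI : IsMonHom e.hom := MTSplit.isMonHom_of_comp_mono e.hom b₀ _ he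
  haveI : LocallyQuasiFinite (cl O) := by
    haveI : IsClosedImmersion (cl O) :=
      IsClosedImmersion.spec_of_surjective (CommRingCat.ofHom (IsLocalRing.residue O)) IsLocalRing.residue_surjective
    infer_instance
  let w : ↥(Spec (CommRingCat.of (IsLocalRing.ResidueField O))) := IsLocalRing.closedPoint _
  have hsol : Red.IsSolvableGrp (Red.geomFibre ((cl O) w) P) := by
    refine (RootBase.isSolvableGrp_bc_fibre_iff (cl O) w).1 ?_
    haveI : IsMonHom e.inv := inferInstance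
    haveI : IsMonHom ((Over.pullback (Red.geomPt w)).map e.inv) := DynPar.isMonHom_map' _ e.inv
    exact RootBase.isSolvableGrp_of_isIso ((Over.pullback (Red.geomPt w)).map e.inv) (hb4 w).2.2.2.2.1
  have hconn := ParNorm.connectedSpace_geomFibre_parabolic (fun s => (hG.2.2 s).2.2.1) p hP
  have hcl : (cl O) w = IsLocalRing.closedPoint O := IsLocalRing.comap_closedPoint (IsLocalRing.residue O)
  have hmem : Red.IsBorelOver _ ((Over.pullback (Red.geomPt ((cl O) w))).map p) :=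
    haveI := hconn ((cl O) w)
    (RootBase.isBorelOver_iff_solvable _ (hP.2.2.2 _)).2 hsol
  refine ⟨P, inferInstance, p, hP.1, hP.2.1, hP.2.2.1, fun s => ?_⟩
  have hopen := (RootBase.isClopen_borelLocus hG p hP).isOpen
  exact hopen.stableUnderGeneralization
    (show s ⤳ (cl O) w from hcl ▸ IsLocalRing.specializes_closedPoint s) hmem

/-- A reductive group over a henselian local ring has a maximal torus. -/
theorem exists_maximalTorus (hG : Red.IsReductive G) :
    ∃ (T : Over (Spec (CommRingCat.of O))) (_ : GrpObj T) (i : T ⟶ G), Red.IsMaximalTorus i := by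
  haveI := hG.1; haveI := hG.2.1
  obtain ⟨𝒯, Tu, _, iu, hrep, hsm, -, -⟩ :=
    Groth.Agent.S4132.result (Spec (CommRingCat.of O)) G (TorScheme.hasMaxTorusFpqcLocally_of_isReductive hG)
  haveI : Smooth (Red.bc (cl O) G).hom := inferInstanceAs (Smooth (pullback.snd G.hom (cl O)))
  haveI : QuasiCompact (Red.bc (cl O) G).hom := inferInstanceAs (QuasiCompact (pullback.snd G.hom (cl O)))
  obtain ⟨T₀, _, i₀, hi₀⟩ := Groth.Agent.S4121.result (IsLocalRing.ResidueField O) (Red.bc (cl O) G)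
  obtain ⟨v₀, ⟨hv₀, -⟩, -⟩ := hrep.2 _ (cl O) T₀ i₀ hi₀
  haveI := hsm
  obtain ⟨v, hv, -⟩ := SmallPicks.exists_smooth_section O 𝒯.hom v₀ hv₀
  haveI : LocallyOfFiniteType (Red.bc 𝒯.hom G).hom :=
    inferInstanceAs (LocallyOfFiniteType (pullback.snd G.hom 𝒯.hom))
  haveI : QuasiCompact (Red.bc 𝒯.hom G).hom := inferInstanceAs (QuasiCompact (pullback.snd G.hom 𝒯.hom))
  have h1 := Chev.MaxTorusBC.isMaximalTorus_bc iu hrep.1 v
  obtain ⟨e, -, he⟩ := Chev.MaxTorusBC.exists_trIso hv G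
  haveI : IsMonHom e.hom := he
  let f : Grp.mk (Red.bc v (Red.bc 𝒯.hom G)) ≅ Grp.mk G :=
    (Grp.mkIso' e).symm ≪≫ Chev.bcIdIso G
  let ei : Red.bc v (Red.bc 𝒯.hom G) ≅ G := (Grp.forget _).mapIso f
  haveI : IsMonHom ei.hom := f.hom.hom.isMonHom_hom
  haveI : IsMonHom (Iso.refl (Red.bc v Tu)).hom := inferInstanceAs (IsMonHom (𝟙 _))
  exact ⟨Red.bc v Tu, inferInstance, (Over.pullback v).map iu ≫ ei.hom,
    MTImage.isMaximalTorus_iso (Iso.refl _) ei ((Over.pullback v).map iu) _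
      (by rw [Iso.refl_hom, Category.id_comp]) h1.2.2.1 h1⟩

/-- A torus over a henselian local ring is split by a local finite étale henselian algebra. -/
theorem exists_split_finite_etale {T : Over (Spec (CommRingCat.of O))} [GrpObj T] (hT : Red.IsTorus T) :
    ∃ (O' : Type u) (_ : CommRing O') (_ : HenselianLocalRing O') (_ : Algebra O O'),
      Algebra.Etale O O' ∧ Module.Finite O O' ∧
      ∃ r : ℕ, Red.IsSplitTorusWith (Fin r → ℤ) (Red.bc (Spec.map (CommRingCat.ofHom (algebraMap O O'))) T) := by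
  let κ := IsLocalRing.ResidueField O
  have hT₀ : Red.IsTorus (Red.bc (cl O) T) := Chev.Borel.isTorus_bc_scheme T _ hT
  obtain ⟨X, _, _, hX, hXf, ⟨eX⟩⟩ :=
    MTBridge.exists_hopf (Red.bc (cl O) T) (isMultTypeFT_of_isTorus _ hT₀)
  haveI := hXf
  obtain ⟨k', _, _, _, _, M, _, hMfg, ⟨eM⟩⟩ := MultT.exists_finite_separable_split (k := κ) (X := X) hX
  obtain ⟨O', _, _, _, het, hfin, hff, ⟨e⟩⟩ := MultT.exists_henselian_lift O k'
  haveI : IsLocalHom (algebraMap O O') := by
    refine ((IsLocalRing.local_hom_TFAE _).out 0 4).2 ?_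
    haveI := Ideal.isMaximal_comap_of_isIntegral_of_isMaximal (R := O) (IsLocalRing.maximalIdeal O')
    exact IsLocalRing.eq_maximalIdeal this
  let κ' := IsLocalRing.ResidueField O'
  haveI : IsScalarTower O κ κ' := .of_algebraMap_eq fun _ => rfl
  let σ : k' →ₐ[κ] κ' :=
    (Algebra.TensorProduct.lift (Algebra.ofId κ κ') (IsScalarTower.toAlgHom O O' κ')
      (fun _ _ => Commute.all _ _)).comp e.symm.toAlgHom
  letI : Algebra k' κ' := σ.toRingHom.toAlgebra
  haveI : IsScalarTower κ k' κ' := .of_algebraMap_eq fun x => (σ.commutes x).symm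
  obtain ⟨N, _, hNfg, ⟨eN⟩⟩ := exists_small_model hMfg
  let φ := Spec.map (CommRingCat.ofHom (algebraMap O O'))
  let ψ := Spec.map (CommRingCat.ofHom (algebraMap κ κ'))
  have hsq : cl O' ≫ φ = ψ ≫ cl O := by
    show Spec.map _ ≫ Spec.map _ = Spec.map _ ≫ Spec.map _
    rw [← Spec.map_comp, ← Spec.map_comp]
    rfl
  -- the closed fibre is diagonalisable
  let e₁ : (k' ⊗[κ] X) ≃ₐc[k'] MonoidAlgebra k' (Multiplicative N) :=
    eM.trans (MonoidAlgebra.domCongrBialgEquiv k' k' eN)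
  obtain ⟨d₁⟩ := nonempty_bc_specGrp κ k' X
  obtain ⟨d₂⟩ := nonempty_specGrp_iso e₁.symm
  obtain ⟨d₃⟩ := nonempty_DS_iso k' N
  let ρ := Spec.map (CommRingCat.ofHom (algebraMap k' κ'))
  let τ := Spec.map (CommRingCat.ofHom (algebraMap κ k'))
  have hρτ : ρ ≫ τ = ψ := by
    show Spec.map _ ≫ Spec.map _ = Spec.map _
    rw [← Spec.map_comp, ← CommRingCat.ofHom_comp, ← IsScalarTower.algebraMap_eq]
  let d : Grp.mk (Red.bc (cl O') (Red.bc φ T)) ≅ Grp.mk (Red.DS (Spec (CommRingCat.of κ')) N) :=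
    (bcComp φ (cl O') T).symm ≪≫ bcCongr (hsq.trans (by rw [hρτ]) : cl O' ≫ φ = (ρ ≫ τ) ≫ cl O) T ≪≫
      bcComp (cl O) (ρ ≫ τ) T ≪≫ bcComp τ ρ (Red.bc (cl O) T) ≪≫
      bcMapIso ρ (bcMapIso τ eX ≪≫ d₁ ≪≫ d₂ ≪≫ d₃.symm) ≪≫ bcDS ρ N
  have hT' : Red.IsTorus (Red.bc φ T) := Chev.Borel.isTorus_bc_scheme T φ hT
  have hT'₀ : Red.IsTorus (Red.bc (cl O') (Red.bc φ T)) := Chev.Borel.isTorus_bc_scheme _ _ hT'
  obtain ⟨r, ⟨nr⟩⟩ := DynPar.exists_lattice hT'₀ (⟨d⟩ : Red.IsSplitTorusWith N _)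
  have hsplit₀ : Red.IsSplitTorusWith (Fin r → ℤ) (Red.bc (cl O') (Red.bc φ T)) := by
    obtain ⟨a⟩ := nonempty_DS_iso κ' N
    obtain ⟨b⟩ := nonempty_DS_iso κ' (Fin r → ℤ)
    obtain ⟨c⟩ := nonempty_specGrp_iso (MonoidAlgebra.domCongrBialgEquiv κ' κ' (AddEquiv.toMultiplicative nr))
    exact ⟨d ≪≫ a ≪≫ c.symm ≪≫ b.symm⟩
  obtain ⟨D, _, hD, hDs, ee, hee⟩ := exists_torus_model hsplit₀
  haveI := hee
  haveI := MTImage.smooth_torus hT'
  haveI := MTBridge.isAffineHom _ (isMultTypeFT_of_isTorus _ hT')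
  haveI : IsMonHom (𝟙 (Red.bc (cl O') (Red.bc φ T))) := inferInstance
  obtain ⟨c, hc, hce⟩ := exists_lift_of_iso (G := Red.bc φ T) (isMultTypeFT_of_isTorus _ hD) ‹Smooth (Red.bc φ T).hom›
    inferInstance ee.inv (𝟙 _)
  haveI := hc
  haveI : IsIso c := isIso_tori hD hT' c (by
    rw [show (Over.pullback (cl O')).map c = ee.hom from (cancel_epi ee.inv).1 (by rw [hce, ee.inv_hom_id])]
    infer_instance)
  obtain ⟨dD⟩ := hDs
  haveI : IsMonHom (asIso c).hom := hc
  exact ⟨O', inferInstance, inferInstance, inferInstance, het, hfin, r, ⟨(Grp.mkIso' (asIso c)).symm ≪≫ dD⟩⟩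

end Groth.Agent.HensPar
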