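import Groth.Agent.HensPar.Main
import Groth.Agent.ParStd.OppositeMain
import Groth.Agent.ParStd.LeviExists
import Groth.Agent.ParStd.LeviTorus
import Groth.Agent.S4121

/-!
# Opposed parabolic subgroups over henselian local rings
-/

set_option autoImplicit false
set_option linter.style.haveILetI false
set_option linter.unusedSectionVars false
set_option backward.isDefEq.respectTransparency false
set_option backward.isDefEq.respectTransparency.types false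
set_option maxHeartbeats 1000000
set_option synthInstance.maxHeartbeats 400000

universe u

open CategoryTheory Limits MonoidalCategory CartesianMonoidalCategory MonObj AlgebraicGeometry
open scoped CategoryTheory.Obj

noncomputable section

namespace Groth.Agent.HensPar

open Groth.Agent.DynPar Groth.Agent.MTBridge Groth.Agent.ParStd

/-- Centralizers can be replaced by isomorphic subgroups. -/
theorem centralizer_of_iso {S : Scheme.{u}} {G H Z L : Over S} [GrpObj G] [GrpObj H] [GrpObj Z] [GrpObj L]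
    {i : H ⟶ G} {z : Z ⟶ G} (hz : Red.IsCentralizerOf i z) (lG : L ⟶ G) [IsMonHom lG] [Mono lG] (e : Z ≅ L)
    (he : e.hom ≫ lG = z) : Red.IsCentralizerOf i lG := by
  refine ⟨inferInstance, inferInstance, fun X g => Iff.trans ?_ (hz.2.2 X g)⟩
  constructor
  · rintro ⟨w, rfl⟩
    exact ⟨w ≫ e.inv, by rw [Category.assoc, ← he, Iso.inv_hom_id_assoc]⟩
  · rintro ⟨w, rfl⟩
    exact ⟨w ≫ e.hom, by rw [Category.assoc, he]⟩

section Field

variable {k : Type u} [Field k]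

/-- A parabolic subgroup and a Levi subgroup are cut out by one cocharacter. -/
theorem exists_cochar_levi {G P L : Over (Spec (CommRingCat.of k))} [GrpObj G] [GrpObj P] [GrpObj L]
    (hG : Red.IsReductive G) (p : P ⟶ G) (hP : Red.IsParabolic p) (l : L ⟶ P) (hl : Par.IsLevi l) :
    ∃ c : Red.DS (Spec (CommRingCat.of k)) ℤ ⟶ G, IsMonHom c ∧ IsP c p ∧ Red.IsCentralizerOf c (l ≫ p) := by
  haveI := hP.1; haveI := hP.2.1; haveI := hl.1; haveI := hl.2.1; haveI := hG.1; haveI := hG.2.1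
  haveI : Mono p := Over.mono_of_mono_left p
  haveI : IsMonHom (l ≫ p) := DynPar.isMonHom_comp' l p
  haveI := hl.2.2.1.1; haveI := hl.2.2.1.2.1
  haveI : IsAffine L.left := isAffine_of_isAffineHom L.hom
  obtain ⟨U, _, u, r, hu, hr, hlr, -, hker⟩ := exists_retraction hl
  haveI := hu.1; haveI := hu.2.1; haveI := hu.2.2.2.1; haveI := hr
  obtain ⟨T, _, t, ht⟩ := Groth.Agent.S4121.result k L
  haveI := ht.1
  haveI : IsMonHom (t ≫ l) := DynPar.isMonHom_comp' t l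
  have hT : Red.IsMaximalTorus ((t ≫ l) ≫ p) := by
    rw [Category.assoc]
    exact isMaximalTorus_of_retraction hG p hP l u r hlr hker hu.2.2.2.2.2.1 t ht
  haveI := hT.1
  obtain ⟨jc, hjc, hc⟩ := exists_cochar_isP hG p hP ((t ≫ l) ≫ p) hT (t ≫ l) rfl
  haveI := hjc
  let c := jc ≫ (t ≫ l) ≫ p
  haveI : IsMonHom c := DynPar.isMonHom_comp' jc ((t ≫ l) ≫ p)
  obtain ⟨Z, _, z, hz, -, -⟩ := Groth.Agent.S5247.result (Red.DS (Spec (CommRingCat.of k)) ℤ) G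
    (MTTorus.isMultTypeFT_DS _ ℤ) hG.2.1 hG.1 c
  obtain ⟨-, zP, hzP, hzL⟩ := DynPar.isParabolic_isLevi hG hc hz
  obtain ⟨tz, htz⟩ : ∃ tz : T ⟶ Z, tz ≫ z = (t ≫ l) ≫ p := (hz.2.2 T _).2 fun X' x h => by
    show (x ≫ (t ≫ l) ≫ p) * (h ≫ jc ≫ (t ≫ l) ≫ p) = (h ≫ jc ≫ (t ≫ l) ≫ p) * (x ≫ (t ≫ l) ≫ p)
    rw [← Category.assoc h jc, ← MonObj.mul_comp, ← MonObj.mul_comp, GrMax.comm_points_torus T ht.2.2.1]
  have htzP : tz ≫ zP = t ≫ l := by rw [← cancel_mono p, Category.assoc, hzP, htz]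
  obtain ⟨L₁, _, l₁, t₁, hl₁, -, hmax⟩ := exists_levi hG p hP (t ≫ l) hT
  obtain ⟨m, hm⟩ := hmax L l t hl.1 hl.2.1 hl.2.2.1 rfl
  obtain ⟨e₁, he₁⟩ := exists_iso_of_levi_le hl₁ hl m hm
  obtain ⟨m', hm'⟩ := hmax Z zP tz hzL.1 hzL.2.1 hzL.2.2.1 htzP
  obtain ⟨e₂, he₂⟩ := exists_iso_of_levi_le hl₁ hzL m' hm'
  refine ⟨c, inferInstance, hc, centralizer_of_iso hz (l ≫ p) (e₂ ≪≫ e₁.symm) ?_⟩
  rw [Iso.trans_hom, Iso.symm_hom, Category.assoc, ← he₁, Category.assoc e₁.hom l₁ p, Iso.inv_hom_id_assoc,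
    reassoc_of% he₂, hzP]

end Field

variable {O : Type u} [CommRing O] [HenselianLocalRing O] {G : Over (Spec (CommRingCat.of O))} [GrpObj G]

/-- **Opposed pairs of parabolic subgroups lift from the closed fibre.** -/
theorem exists_opposed_lift (hG : Red.IsReductive G)
    {P₀ P₀' L₀ : Over (Spec (CommRingCat.of (IsLocalRing.ResidueField O)))} [GrpObj P₀] [GrpObj P₀'] [GrpObj L₀]
    (p₀ : P₀ ⟶ Red.bc (cl O) G) (p₀' : P₀' ⟶ Red.bc (cl O) G) (hp₀ : Red.IsParabolic p₀)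
    (hp₀' : Red.IsParabolic p₀') (l₀ : L₀ ⟶ P₀) (m₀ : L₀ ⟶ P₀') (hsq : IsPullback l₀ m₀ p₀ p₀')
    (hl₀ : Par.IsLevi l₀) :
    ∃ (P P' : Over (Spec (CommRingCat.of O))) (_ : GrpObj P) (_ : GrpObj P') (p : P ⟶ G) (p' : P' ⟶ G),
      Red.IsParabolic p ∧ Red.IsParabolic p' ∧
      (∃ (L : Over (Spec (CommRingCat.of O))) (_ : GrpObj L) (l : L ⟶ P) (m : L ⟶ P'),
        IsPullback l m p p' ∧ Par.IsLevi l ∧ Par.IsLevi m) ∧
      (∃ e : Red.bc (cl O) P ≅ P₀, e.hom ≫ p₀ = (Over.pullback (cl O)).map p) ∧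
      (∃ e' : Red.bc (cl O) P' ≅ P₀', e'.hom ≫ p₀' = (Over.pullback (cl O)).map p') := by
  haveI := hG.1
  have hGk := DynPar.isReductive_bc (cl O) hG
  haveI := hGk.1
  obtain ⟨c₀, hc₀, hP₀, hZ₀⟩ := exists_cochar_levi hGk p₀ hp₀ l₀ hl₀
  haveI := hc₀
  haveI := isMonHom_negD c₀
  obtain ⟨P₁, _, p₁, hP₁⟩ := exists_isP (G := Red.bc (cl O) G) (negD c₀)
  obtain ⟨hp₁, m₁, -, hsq₁⟩ := isParabolic_negD hGk c₀ hP₀ hP₁ hZ₀ l₀ rfl
  obtain ⟨e₁, he₁⟩ := opposite_unique hGk p₀ hp₀ hl₀ hp₁ hp₀' hsq₁ hsq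
  obtain ⟨c, hc, he⟩ := exists_ds_lift (MTTorus.isMultTypeFT_DS _ ℤ) hG.2.1 hG.1 c₀
  haveI := hc
  haveI := isMonHom_negD c
  obtain ⟨Z, _, z, hz, -, -⟩ :=
    Groth.Agent.S5247.result (Red.DS (Spec (CommRingCat.of O)) ℤ) G (MTTorus.isMultTypeFT_DS _ ℤ) hG.2.1 hG.1 c
  obtain ⟨P, hPg, p, zP, hP, hpar, hzP, hlevi⟩ := DynPar.exists_parabolic hG hz
  obtain ⟨P', hPg', p', hP'⟩ := exists_isP (G := G) (negD c)
  obtain ⟨hpar', m, hm, hpb⟩ := isParabolic_negD hG c hP hP' hz zP hzP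
  obtain ⟨-, zP', hzP', hlevi'⟩ :=
    DynPar.isParabolic_isLevi hG hP' (DynPar.centralizer_congr hz fun B _ f g => (mem_ZSub_negD c).symm)
  haveI := hP'.2.1
  haveI : Mono p' := Over.mono_of_mono_left p'
  obtain rfl : m = zP' := by rw [← cancel_mono p', hm, hzP']
  have he' : bcHom' (cl O) (negD c) = negD c₀ := by rw [negD, bcHom'_DSmap, he]
  obtain ⟨eP', heP'⟩ := exists_iso_closed hP' hP₁ he'
  exact ⟨P, P', hPg, hPg', p, p', hpar, hpar', ⟨Z, inferInstance, zP, m, hpb, hlevi, hlevi'⟩,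
    exists_iso_closed hP hP₀ he, eP' ≪≫ e₁, by rw [Iso.trans_hom, Category.assoc, he₁, heP']⟩

end Groth.Agent.HensPar
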